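import Cfsg.Agent.ClassCount.Camina
import Cfsg.Agent.CharInd.Correspondence
import Cfsg.Agent.PGroup.Basic
import Cfsg.Agent.CaminaFpf.Fixed

/-!
# No free character in a Camina pair of p-groups
-/

set_option autoImplicit false

noncomputable section

namespace Cfsg.Agent.CaminaFpf

open Subgroup Cfsg

universe u

variable {P : Type u} [Group P] [Finite P]

/-- At most `p` irreducible characters lie over a character of a subgroup of index `p`. -/
theorem card_over_le {p : ℕ} {B B' : Subgroup P} (hle : B' ≤ B) (hidx : B'.relIndex B = p)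
    [Fintype B'] {φ : B' → ℂ} (hφ : IsIrrCharacter B' φ) :
    Nat.card {η : IrrCharacter B //
      classInner (fun k : B' => (η : B → ℂ) ⟨k, hle k.2⟩) φ ≠ 0} ≤ p := by
  classical
  letI := Fintype.ofFinite B
  set H : Subgroup B := B'.subgroupOf B with hH
  letI := Fintype.ofFinite H
  let e : H ≃* B' := Subgroup.subgroupOfEquivOfLe hle
  set θ : H → ℂ := fun x => φ (e x) with hθ
  have hθirr : IsIrrCharacter H θ := CharInd.irr_comp_surjective e.toMonoidHom e.surjective hφ
  have hind : IsCharacter B (Cfsg.indFun H θ) :=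
    CharInd.isCharacter_indFun H (Char.isCharacter_of_irr hθirr)
  obtain ⟨m, hm, hm'⟩ := Char.isCharacter_exists_coeff hind
  have hswap : ∀ η : IrrCharacter B, classInner (Cfsg.indFun H θ) (η : B → ℂ) =
      starRingEnd ℂ (classInner (fun k : B' => (η : B → ℂ) ⟨k, hle k.2⟩) φ) := by
    intro η
    rw [CharInd.classInner_indFun_left H θ (Char.irr_isClassFunction η.2), ← CharInd.classInner_swap]
    congr 1
    simp only [Cfsg.classInner, Nat.card_congr e.toEquiv]
    congr 1
    exact Fintype.sum_equiv e.toEquiv _ _ fun x => rfl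
  obtain ⟨d, hd0, hd⟩ := Char.irr_one_pos hφ
  choose n hn0 hn using fun η : IrrCharacter B => Char.irr_one_pos η.2
  set X := (Finset.univ : Finset (IrrCharacter B)).filter
    (fun η : IrrCharacter B => classInner (fun k : B' => (η : B → ℂ) ⟨k, hle k.2⟩) φ ≠ 0) with hX
  have hone : ∀ η ∈ X, d ≤ m η * n η := by
    intro η hη
    have hne := (Finset.mem_filter.1 hη).2
    have hres : IsCharacter B' (fun k : B' => (η : B → ℂ) ⟨k, hle k.2⟩) :=
      CharInd.isCharacter_comp (Subgroup.inclusion hle) (Char.isCharacter_of_irr η.2)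
    obtain ⟨a, ha, ha'⟩ := Char.isCharacter_exists_coeff hres
    choose b hb0 hb using fun ξ : IrrCharacter B' => Char.irr_one_pos ξ.2
    have h1 : n η = ∑ ξ, a ξ * b ξ := by
      have h2 := congrFun ha 1
      simp only [Finset.sum_apply, Pi.smul_apply] at h2
      simp only [nsmul_eq_mul, hb, OneMemClass.coe_one] at h2
      have h3 : ((n η : ℕ) : ℂ) = ((∑ ξ, a ξ * b ξ : ℕ) : ℂ) := by
        push_cast
        rw [← h2, ← hn η]
        rfl
      exact_mod_cast h3
    have ha0 : a ⟨φ, hφ⟩ ≠ 0 := fun h0 => hne (by rw [ha' ⟨φ, hφ⟩, h0, Nat.cast_zero])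
    have hm0 : m η ≠ 0 := fun h0 => hne (by
      have h4 := (hm' η).symm.trans (hswap η)
      rw [h0, Nat.cast_zero] at h4
      exact (map_eq_zero _).1 h4.symm)
    have hbd : b ⟨φ, hφ⟩ = d := by exact_mod_cast (hb ⟨φ, hφ⟩).symm.trans hd
    calc d = b ⟨φ, hφ⟩ := hbd.symm
      _ ≤ a ⟨φ, hφ⟩ * b ⟨φ, hφ⟩ := Nat.le_mul_of_pos_left _ (Nat.pos_of_ne_zero ha0)
      _ ≤ ∑ ξ, a ξ * b ξ :=
        Finset.single_le_sum (f := fun ξ => a ξ * b ξ) (fun _ _ => Nat.zero_le _) (Finset.mem_univ _)
      _ = n η := h1.symm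
      _ ≤ m η * n η := Nat.le_mul_of_pos_left _ (Nat.pos_of_ne_zero hm0)
  have hsum : ∑ η, m η * n η = p * d := by
    have h2 := congrFun hm 1
    rw [CharInd.indFun_one_apply] at h2
    have h3 : θ 1 = (d : ℂ) := by rw [hθ]; simpa using hd
    rw [h3, show H.index = p from hidx] at h2
    simp only [Finset.sum_apply, Pi.smul_apply] at h2
    simp only [nsmul_eq_mul, hn] at h2
    exact_mod_cast h2.symm
  have hle' : X.card * d ≤ p * d := by
    rw [← hsum, ← smul_eq_mul, ← Finset.sum_const]
    exact le_trans (Finset.sum_le_sum hone)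
      (Finset.sum_le_sum_of_subset_of_nonneg (Finset.subset_univ X) fun _ _ _ => Nat.zero_le _)
  rw [Nat.card_eq_fintype_card, Fintype.card_subtype]
  exact Nat.le_of_mul_le_mul_right hle' hd0

/-- The centraliser in a Camina pair has the order of the centraliser of the image. -/
theorem card_centralizer_mul (D : Subgroup P) [D.Normal] (hcp : Camina.IsCP D) {g : P}
    (hg : g ∉ D) :
    Nat.card ↥((centralizer ({QuotientGroup.mk' D g} : Set (P ⧸ D))).comap (QuotientGroup.mk' D)) =
      Nat.card D * Nat.card ↥(centralizer ({g} : Set P)) := by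
  rw [(S4142.result D).1 hcp g hg]
  set K := centralizer ({QuotientGroup.mk' D g} : Set (P ⧸ D))
  apply Nat.eq_of_mul_eq_mul_right (Nat.pos_of_ne_zero K.index_ne_zero_of_finite)
  conv_lhs => rw [← Subgroup.index_comap_of_surjective K (QuotientGroup.mk'_surjective D),
    Subgroup.card_mul_index]
  rw [mul_assoc, show Nat.card ↥(centralizer ({(QuotientGroup.mk g : P ⧸ D)} : Set (P ⧸ D))) =
    Nat.card K from rfl, Subgroup.card_mul_index, mul_comm]
  exact Subgroup.card_eq_card_quotient_mul_card_subgroup D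

/-- An element outside `D` has at least `p` times as large a centraliser as its fixed points in `D`. -/
theorem mul_card_le_centralizer {p : ℕ} [Fact p.Prime] (hP : IsPGroup p P) (D : Subgroup P)
    {g : P} (hg : g ∉ D) :
    p * Nat.card ↥(D ⊓ centralizer ({g} : Set P)) ≤ Nat.card ↥(centralizer ({g} : Set P)) := by
  set C := centralizer ({g} : Set P)
  have hlt : D ⊓ C < C := lt_of_le_of_ne inf_le_right fun h =>
    hg ((h.symm.le (mem_centralizer_singleton_iff.2 rfl)).1)
  obtain ⟨c, hc⟩ := (hP.to_subgroup (D ⊓ C)).exists_card_eq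
  obtain ⟨e, he⟩ := (hP.to_subgroup C).exists_card_eq
  have h1 : Nat.card ↥(D ⊓ C) < Nat.card C := by
    by_contra hh
    exact hlt.ne (Subgroup.eq_of_le_of_card_ge hlt.le (by omega))
  rw [hc, he] at h1 ⊢
  rw [← pow_succ']
  exact Nat.pow_le_pow_right (Fact.out : p.Prime).pos
    ((Nat.pow_lt_pow_iff_right (Fact.out : p.Prime).one_lt).1 h1)

/-- In a Camina pair of p-groups no irreducible character of `D` has its stabiliser inside `D`. -/
theorem no_free_char {p : ℕ} [Fact p.Prime] (hP : IsPGroup p P) (D : Subgroup P) [D.Normal]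
    (hD1 : D ≠ ⊥) (hDT : D ≠ ⊤) (hcp : Cfsg.Agent.Camina.IsCP D) (χ : Cfsg.IrrCharacter ↥D)
    (hfree : ∀ y : P,
      (χ : ↥D → ℂ) ∘ (MulAut.conjNormal y : MulAut ↥D) = (χ : ↥D → ℂ) → y ∈ D) : False := by
  classical
  letI := Fintype.ofFinite P
  suffices key : ∀ (n : ℕ) (B : Subgroup P) (hB : B.Normal), Nat.card B = n → B ≤ D →
      ∀ φ : IrrCharacter B, ¬ CharInd.conjStab B (φ : B → ℂ) ≤ D by
    refine key _ D inferInstance rfl le_rfl χ fun y hy => hfree y ?_
    exact (CharInd.conjChar_eq_comp D y (χ : D → ℂ)).symm.trans hy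
  intro n
  induction n using Nat.strong_induction_on with
  | _ n ih =>
    intro B hB hn hBD φ hφ
    obtain ⟨k, hk⟩ := (hP.to_subgroup B).exists_card_eq
    rcases k with _ | k
    · -- the trivial subgroup
      rw [pow_zero] at hk
      haveI := (Nat.card_eq_one_iff_unique.1 hk).1
      refine hDT (eq_top_iff.2 fun y _ => hφ ?_)
      rw [CharInd.mem_conjStab]
      funext b
      rw [CharInd.conjChar_apply]
      exact congrArg _ (Subsingleton.elim _ _)
    obtain ⟨B', hB', -, hB'B, hB'card⟩ := PGroup.exists_normal_card_eq hP (k := k)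
      (bot_le : (⊥ : Subgroup P) ≤ B) (by rw [Subgroup.card_bot]; exact Nat.one_le_pow _ _ (Fact.out : p.Prime).pos)
      (by rw [hk]; exact Nat.pow_le_pow_right (Fact.out : p.Prime).pos (Nat.le_succ k))
    have hidx : B'.relIndex B = p := by
      have h1 := Subgroup.relIndex_mul_relIndex ⊥ B' B bot_le hB'B
      rw [Subgroup.relIndex_bot_left, Subgroup.relIndex_bot_left, hk, hB'card, pow_succ] at h1
      exact Nat.eq_of_mul_eq_mul_left (pow_pos (Fact.out : p.Prime).pos k) h1
    letI := Fintype.ofFinite B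
    letI := Fintype.ofFinite B'
    have hres : IsCharacter B' (fun b : B' => (φ : B → ℂ) ⟨b, hB'B b.2⟩) :=
      CharInd.isCharacter_comp (Subgroup.inclusion hB'B) (Char.isCharacter_of_irr φ.2)
    obtain ⟨φ', a, ha, hφ'⟩ := Char.exists_irr_constituent hres
      (fun h => Char.irr_one_ne_zero φ.2 (congrFun h 1))
    set T := CharInd.conjStab B' (φ' : B' → ℂ) with hT
    have hTD : ¬ T ≤ D := by
      refine ih _ ?_ B' hB' rfl (hB'B.trans hBD) φ'
      rw [← hn, hB'card, hk]
      exact Nat.pow_lt_pow_right (Fact.out : p.Prime).one_lt (Nat.lt_succ_self k)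
    -- the stabiliser of `φ'` has index `p` over its part in `D`
    set S := CharInd.conjStab B (φ : B → ℂ) with hS
    set X := {η : IrrCharacter B //
      classInner (fun b : B' => (η : B → ℂ) ⟨b, hB'B b.2⟩) (φ' : B' → ℂ) ≠ 0} with hX
    have hmemX : ∀ t ∈ T,
        classInner (fun b : B' => CharInd.conjChar B t (φ : B → ℂ) ⟨b, hB'B b.2⟩) (φ' : B' → ℂ) ≠ 0 := by
      intro t ht
      have h1 := CharInd.classInner_conjChar B' t
        (fun b : B' => (φ : B → ℂ) ⟨b, hB'B b.2⟩) (φ' : B' → ℂ)
      rw [(CharInd.mem_conjStab B').1 ht, hφ'] at h1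
      rw [show (fun b : B' => CharInd.conjChar B t (φ : B → ℂ) ⟨b, hB'B b.2⟩) =
        CharInd.conjChar B' t (fun b : B' => (φ : B → ℂ) ⟨b, hB'B b.2⟩) from rfl, h1]
      exact_mod_cast ha.ne'
    let F : T ⧸ S.subgroupOf T → X := fun q =>
      ⟨⟨CharInd.conjChar B (q.out : P)⁻¹ (φ : B → ℂ), CharInd.conjChar_irr B _ φ.2⟩,
        hmemX _ (inv_mem q.out.2)⟩
    have hF : Function.Injective F := by
      intro q q' hqq
      have h1 : CharInd.conjChar B (q.out : P)⁻¹ (φ : B → ℂ) =
          CharInd.conjChar B (q'.out : P)⁻¹ (φ : B → ℂ) :=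
        congrArg (fun z : X => ((z.1 : IrrCharacter B) : B → ℂ)) hqq
      rw [← q.out_eq', ← q'.out_eq', QuotientGroup.eq, Subgroup.mem_subgroupOf]
      refine (CharInd.mem_conjStab B).2 ?_
      rw [Subgroup.coe_mul, Subgroup.coe_inv, CharInd.conjChar_mul, h1,
        ← CharInd.conjChar_mul, inv_mul_cancel, CharInd.conjChar_one]
    have hST : S.relIndex T ≤ p := by
      rw [Subgroup.relIndex, Subgroup.index_eq_card]
      exact (Nat.card_le_card_of_injective F hF).trans (card_over_le hB'B hidx φ'.2)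
    have hDT' : D.relIndex T = p := by
      have h1 : D.relIndex T ≤ p := le_trans
        (Nat.le_of_dvd (Nat.pos_of_ne_zero (Subgroup.index_ne_zero_of_finite))
          (Subgroup.relIndex_dvd_of_le_left T hφ)) hST
      obtain ⟨j, hj⟩ := (hP.to_subgroup T).index (D.subgroupOf T)
      rw [show (D.subgroupOf T).index = D.relIndex T from rfl] at hj
      rcases Nat.eq_zero_or_pos j with rfl | hj0
      · exact absurd (Subgroup.relIndex_eq_one.1 (hj.trans (pow_zero p))) hTD
      · refine le_antisymm h1 ?_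
        rw [hj]
        calc p = p ^ 1 := (pow_one p).symm
          _ ≤ p ^ j := Nat.pow_le_pow_right (Fact.out : p.Prime).pos hj0
    obtain ⟨g, hgT, hgD⟩ := SetLike.not_le_iff_exists.1 hTD
    have hCD := mul_card_le_centralizer hP D hgD
    set f := Nat.card ↥(D ⊓ centralizer ({g} : Set P)) with hf
    by_cases hφ1 : (φ' : B' → ℂ) = fun _ => 1
    · -- the trivial constituent
      have hTtop : T = ⊤ := eq_top_iff.2 fun y _ => by
        rw [hT, CharInd.mem_conjStab, hφ1]
        rfl
      rw [hTtop, Subgroup.relIndex_top_right] at hDT'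
      have h1 : Nat.card ↥(centralizer ({g} : Set P)) ≤ p := by
        rw [(S4142.result D).1 hcp g hgD, ← hDT', Subgroup.index_eq_card]
        exact Subgroup.card_le_card_group _
      have h2 : 1 < f := by
        rw [hf, Subgroup.one_lt_card_iff_ne_bot]
        intro hbot
        refine PGroup.inf_center_ne_bot hP D hD1 (eq_bot_iff.2 fun z hz => ?_)
        rw [← hbot]
        exact ⟨hz.1, mem_centralizer_singleton_iff.2 (Subgroup.mem_center_iff.1 hz.2 g).symm⟩
      have h3 : p * 2 ≤ p * f := Nat.mul_le_mul_left p h2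
      have h4 := (Fact.out : p.Prime).pos
      omega
    -- the generic count
    set C := (centralizer ({QuotientGroup.mk' D g} : Set (P ⧸ D))).comap (QuotientGroup.mk' D)
      with hC
    have hCcard := card_centralizer_mul D hcp hgD
    have hfix : ∀ d ∈ D, Nat.card {ψ : IrrCharacter B' //
        CharInd.conjChar B' (g * d) (ψ : B' → ℂ) = (ψ : B' → ℂ)} ≤ f := by
      intro d hd
      have hgd : g * d ∉ D := fun h => hgD (by simpa using mul_mem h (inv_mem hd))
      have h1 := card_fixed_irr B' (g * d) fun b hb => hcp _ hgd b (hBD (hB'B hb))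
      refine le_of_eq_of_le ((Nat.card_congr (Equiv.subtypeEquivRight fun ψ : IrrCharacter B' => by
        rw [CharInd.conjChar_eq_comp]; rfl)).trans h1) ?_
      rw [hf]
      obtain ⟨x, hx⟩ := hcp g hgD d hd
      refine (Subgroup.card_le_of_le (inf_le_inf_right _ (hB'B.trans hBD))).trans
        (le_of_eq ?_)
      refine Nat.card_congr
        { toFun := fun z => ⟨x⁻¹ * z * x, ?_, ?_⟩
          invFun := fun z => ⟨x * z * x⁻¹, ?_, ?_⟩
          left_inv := fun z => Subtype.ext (by simp [mul_assoc])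
          right_inv := fun z => Subtype.ext (by simp [mul_assoc]) }
      · simpa using (inferInstance : D.Normal).conj_mem _ z.2.1 x⁻¹
      · refine mem_centralizer_singleton_iff.2 ?_
        have h2 : (z : P) * (x * g * x⁻¹) = x * g * x⁻¹ * z :=
          hx.symm ▸ mem_centralizer_singleton_iff.1 z.2.2
        calc x⁻¹ * z * x * g = x⁻¹ * ((z : P) * (x * g * x⁻¹)) * x := by group
          _ = g * (x⁻¹ * z * x) := by rw [h2]; group
      · exact (inferInstance : D.Normal).conj_mem _ z.2.1 x
      · refine mem_centralizer_singleton_iff.2 ?_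
        rw [← hx]
        have h2 := mem_centralizer_singleton_iff.1 z.2.2
        calc x * z * x⁻¹ * (x * g * x⁻¹) = x * ((z : P) * g) * x⁻¹ := by group
          _ = x * g * x⁻¹ * (x * z * x⁻¹) := by rw [h2]; group
    -- pairs
    have hpairs : Nat.card (Σ d : D, {ψ : IrrCharacter B' //
        CharInd.conjChar B' (g * d) (ψ : B' → ℂ) = (ψ : B' → ℂ)}) ≤ Nat.card D * f := by
      letI := Fintype.ofFinite D
      rw [Nat.card_sigma, Nat.card_eq_fintype_card (α := D)]
      exact (Finset.sum_le_sum fun (d : D) _ => hfix d d.2).trans (by simp)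
    set T₀ := T.subgroupOf C
    have hconj : ∀ c : C, ∀ t : ↥(T ⊓ D), g⁻¹ * ((c : P)⁻¹ * (g * t) * c) ∈ D := by
      intro c t
      have hc : (QuotientGroup.mk' D) (c : P) * QuotientGroup.mk' D g =
          QuotientGroup.mk' D g * QuotientGroup.mk' D c := mem_centralizer_singleton_iff.1 c.2
      rw [← QuotientGroup.eq_one_iff]
      have ht : QuotientGroup.mk' D (t : P) = 1 := (QuotientGroup.eq_one_iff _).2 t.2.2
      show QuotientGroup.mk' D (g⁻¹ * ((c : P)⁻¹ * (g * t) * c)) = 1
      rw [map_mul, map_mul, map_mul, map_inv, map_inv, map_mul, ht, mul_one,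
        mul_assoc ((QuotientGroup.mk' D) (c : P))⁻¹, ← hc]
      group
    have hfix' : ∀ c : C, ∀ t : ↥(T ⊓ D),
        CharInd.conjChar B' ((c : P)⁻¹ * (g * t) * c) (CharInd.conjChar B' c (φ' : B' → ℂ)) =
          CharInd.conjChar B' c (φ' : B' → ℂ) := by
      intro c t
      rw [← CharInd.conjChar_mul, show (c : P) * ((c : P)⁻¹ * (g * t) * c) = g * t * c by group,
        CharInd.conjChar_mul, (CharInd.mem_conjStab B').1 (mul_mem hgT t.2.1)]
    have htriv : IsIrrCharacter B' (fun _ => 1) := Char.isIrrCharacter_const_one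
    let G' : D ⊕ ((C ⧸ T₀) × ↥(T ⊓ D)) → Σ d : D, {ψ : IrrCharacter B' //
        CharInd.conjChar B' (g * d) (ψ : B' → ℂ) = (ψ : B' → ℂ)} := fun z => match z with
      | Sum.inl d => ⟨d, ⟨_, htriv⟩, rfl⟩
      | Sum.inr (q, t) =>
        ⟨⟨g⁻¹ * (((q.out : C) : P)⁻¹⁻¹ * (g * t) * ((q.out : C) : P)⁻¹), by
            simpa using hconj (q.out)⁻¹ t⟩,
          ⟨_, CharInd.conjChar_irr B' ((q.out : C) : P)⁻¹ φ'.2⟩, by
            simpa [mul_assoc] using hfix' (q.out)⁻¹ t⟩
    have hne1 : ∀ y : P, CharInd.conjChar B' y (φ' : B' → ℂ) ≠ fun _ => 1 := by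
      intro y h
      apply hφ1
      have h1 := congrArg (CharInd.conjChar B' y⁻¹) h
      rw [← CharInd.conjChar_mul, mul_inv_cancel, CharInd.conjChar_one] at h1
      exact h1
    have hG' : Function.Injective G' := by
      intro z z' hzz
      have h2 := congrArg (fun w : Σ d : D, {ψ : IrrCharacter B' //
        CharInd.conjChar B' (g * d) (ψ : B' → ℂ) = (ψ : B' → ℂ)} =>
          ((w.1 : P), ((w.2.1 : IrrCharacter B') : B' → ℂ))) hzz
      rcases z with d | ⟨q, t⟩ <;> rcases z' with d' | ⟨q', t'⟩ <;>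
        simp only [G', Prod.mk.injEq] at h2
      · exact congrArg Sum.inl (Subtype.ext h2.1)
      · exact absurd h2.2.symm (hne1 _)
      · exact absurd h2.2 (hne1 _)
      · have hq : q = q' := by
          rw [← q.out_eq', ← q'.out_eq', QuotientGroup.eq, Subgroup.mem_subgroupOf]
          refine (CharInd.mem_conjStab B').2 ?_
          rw [Subgroup.coe_mul, Subgroup.coe_inv, CharInd.conjChar_mul, h2.2,
            ← CharInd.conjChar_mul, inv_mul_cancel, CharInd.conjChar_one]
        subst hq
        refine congrArg (fun t => Sum.inr (q, t)) (Subtype.ext ?_)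
        simpa using h2.1
    have hmain : Nat.card D + T₀.index * Nat.card ↥(T ⊓ D) ≤ Nat.card D * f := by
      refine le_trans (le_of_eq ?_) ((Nat.card_le_card_of_injective G' hG').trans hpairs)
      rw [Nat.card_sum, Nat.card_prod, Subgroup.index_eq_card]
    have hT0 : Nat.card T₀ ≤ p * Nat.card ↥(T ⊓ D) := by
      have h1 : Nat.card T₀ ≤ Nat.card T :=
        Nat.card_le_card_of_injective (fun x : T₀ => (⟨((x : C) : P), x.2⟩ : T))
          fun x y h => Subtype.ext (Subtype.ext (congrArg (fun z : T => (z : P)) h))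
      have h2 : Nat.card ↥(T ⊓ D) * p = Nat.card T := by
        rw [← hDT', ← Subgroup.inf_relIndex_right, inf_comm T D, ← Subgroup.relIndex_bot_left,
          Subgroup.relIndex_mul_relIndex ⊥ (D ⊓ T) T bot_le inf_le_right,
          Subgroup.relIndex_bot_left]
      rw [mul_comm, h2]; exact h1
    have h5 := Nat.mul_le_mul_left p hmain
    have h6 : Nat.card C ≤ p * (T₀.index * Nat.card ↥(T ⊓ D)) := by
      rw [← T₀.card_mul_index, mul_left_comm, mul_comm (Nat.card T₀)]
      exact Nat.mul_le_mul_left _ hT0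
    have h7 : Nat.card D * (p * f) ≤ Nat.card C := by
      rw [hC, hCcard]
      exact Nat.mul_le_mul_left _ hCD
    have h8 : 0 < p * Nat.card D := Nat.mul_pos (Fact.out : p.Prime).pos Nat.card_pos
    rw [mul_add] at h5
    rw [mul_left_comm (Nat.card D) p f] at h7
    omega

end Cfsg.Agent.CaminaFpf
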