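import Cfsg.Agent.ClassCount.Camina
import Cfsg.Agent.S3977

/-!
Local structure of a Camina pair of `p`-groups with a fixed-point-free coprime module.
-/

set_option autoImplicit false

namespace Cfsg.Agent.CaminaFpf

universe u w

section Endos

variable {V : Type w} [AddCommGroup V]

theorem end_mul_apply (f g : AddMonoid.End V) (v : V) : (f * g) v = f (g v) := rfl

/-- The points fixed by an endomorphism. -/
def fixSub (x : AddMonoid.End V) : AddSubgroup V :=
  AddMonoidHom.eqLocus (x : V →+ V) (AddMonoidHom.id V)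

theorem mem_fixSub {x : AddMonoid.End V} {v : V} : v ∈ fixSub x ↔ x v = v := Iff.rfl

theorem fixSub_stable {x y : AddMonoid.End V} (h : Commute x y) {v : V} (hv : v ∈ fixSub x) :
    y v ∈ fixSub x := by
  rw [mem_fixSub] at *
  have h1 := DFunLike.congr_fun h.eq v
  simp only [end_mul_apply] at h1
  rw [h1, hv]

theorem pow_mem_stable {W : AddSubgroup V} {x : AddMonoid.End V} (hW : ∀ v ∈ W, x v ∈ W)
    (n : ℕ) : ∀ v ∈ W, (x ^ n) v ∈ W := by
  induction n with
  | zero => intro v hv; simpa using hv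
  | succ n ih =>
    intro v hv
    rw [pow_succ, end_mul_apply]
    exact ih _ (hW v hv)

theorem pow_fix {x : AddMonoid.End V} {v : V} (h : x v = v) (n : ℕ) : (x ^ n) v = v := by
  induction n with
  | zero => simp
  | succ n ih => rw [pow_succ, end_mul_apply, h, ih]

theorem fix_of_coprime {x : AddMonoid.End V} {v : V} {i n : ℕ} (hi : (x ^ i) v = v)
    (hn : (x ^ n) v = v) (hc : i.Coprime n) : x v = v := by
  rw [AddMonoid.End.coe_pow] at hi hn
  have h1 : Function.IsPeriodicPt (⇑x) (i.gcd n) v :=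
    Function.IsPeriodicPt.gcd (f := ⇑x) hi hn
  rw [hc] at h1
  exact h1

variable {p : ℕ} [hp : Fact p.Prime]

/-- Two commuting endomorphisms of exponent `p`, no `p`-torsion: one of the `p + 1` lines has a
fixed point. -/
theorem zero_aux (W : AddSubgroup V) (a b : AddMonoid.End V) (hab : Commute a b)
    (hWa : ∀ v ∈ W, a v ∈ W) (hWb : ∀ v ∈ W, b v ∈ W)
    (ha : ∀ v ∈ W, (a ^ p) v = v) (hb : ∀ v ∈ W, (b ^ p) v = v)
    (hpV : ∀ v : V, p • v = 0 → v = 0) (hfb : ∀ v ∈ W, b v = v → v = 0)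
    (hfab : ∀ t : ℕ, ∀ v ∈ W, (a * b ^ t) v = v → v = 0) {v : V} (hv : v ∈ W) : v = 0 := by
  have key : ∀ x : AddMonoid.End V, (∀ u ∈ W, x u ∈ W) → (x ^ p) v = v →
      x (∑ i ∈ Finset.range p, (x ^ i) v) = ∑ i ∈ Finset.range p, (x ^ i) v ∧
        ∑ i ∈ Finset.range p, (x ^ i) v ∈ W := by
    intro x hx hxp
    refine ⟨?_, sum_mem fun i _ => pow_mem_stable hx i v hv⟩
    have h1 := Finset.sum_range_succ' (fun i => (x ^ i) v) p
    have h2 := Finset.sum_range_succ (fun i => (x ^ i) v) p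
    rw [h2] at h1
    simp only [hxp, pow_zero, AddMonoid.End.coe_one, id_eq] at h1
    rw [map_sum]
    refine (Finset.sum_congr rfl fun i _ => ?_).trans (add_right_cancel h1).symm
    rw [pow_succ', end_mul_apply]
  have hpp : ∀ t : ℕ, ((a * b ^ t) ^ p) v = v := by
    intro t
    rw [(hab.pow_right t).mul_pow, end_mul_apply, ← pow_mul, mul_comm t p, pow_mul,
      pow_fix (hb v hv), ha v hv]
  have hz : ∀ t : ℕ, ∑ i ∈ Finset.range p, ((a * b ^ t) ^ i) v = 0 := by
    intro t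
    have hst : ∀ u ∈ W, (a * b ^ t) u ∈ W := fun u hu => by
      rw [end_mul_apply]
      exact hWa _ (pow_mem_stable hWb t u hu)
    obtain ⟨h1, h2⟩ := key _ hst (hpp t)
    exact hfab t _ h2 h1
  have hcol : ∀ i ∈ Finset.range p, i ≠ 0 →
      ∑ t ∈ Finset.range p, ((b ^ i) ^ t) v = 0 := by
    intro i hi hi0
    have hbi : ((b ^ i) ^ p) v = v := by
      rw [← pow_mul, mul_comm, pow_mul, pow_fix (hb v hv)]
    obtain ⟨h1, h2⟩ := key (b ^ i) (pow_mem_stable hWb i) hbi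
    refine hfb _ h2 (fix_of_coprime h1 (hb _ h2) ?_)
    exact ((hp.out.coprime_iff_not_dvd).2
      (Nat.not_dvd_of_pos_of_lt (Nat.pos_of_ne_zero hi0) (Finset.mem_range.1 hi))).symm
  apply hpV
  have hsum : ∑ t ∈ Finset.range p, ∑ i ∈ Finset.range p, ((a * b ^ t) ^ i) v = p • v := by
    rw [Finset.sum_comm, Finset.sum_eq_single_of_mem 0 (Finset.mem_range.2 hp.out.pos)]
    · simp
    · intro i hi hi0
      have h1 : ∀ t, ((a * b ^ t) ^ i) v = (a ^ i) (((b ^ i) ^ t) v) := fun t => by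
        rw [(hab.pow_right t).mul_pow, end_mul_apply, ← pow_mul, ← pow_mul, mul_comm t i]
      simp only [h1, ← map_sum, hcol i hi hi0, map_zero]
  rw [← hsum]
  exact Finset.sum_eq_zero fun t _ => hz t

theorem eq_zero_of_pair (a b : AddMonoid.End V)
    (hab : Commute a b) (ha : a ^ p = 1) (hb : b ^ p = 1) (hpV : ∀ v : V, p • v = 0 → v = 0)
    (hfb : ∀ v : V, b v = v → v = 0) (hfab : ∀ t : ℕ, ∀ v : V, (a * b ^ t) v = v → v = 0)
    (v : V) : v = 0 :=
  zero_aux (p := p) ⊤ a b hab (fun _ _ => trivial) (fun _ _ => trivial)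
    (fun u _ => by rw [ha]; rfl) (fun u _ => by rw [hb]; rfl) hpV (fun u _ => hfb u)
    (fun t u _ => hfab t u) (v := v) trivial

/-- Two commuting endomorphisms of `p`-power order: some primitive combination has a fixed
point. -/
theorem exists_fixed (hpV : ∀ v : V, p • v = 0 → v = 0) (a b : ℕ) (u x : AddMonoid.End V)
    (hux : Commute u x) (W : AddSubgroup V) (hW : W ≠ ⊥) (hWu : ∀ v ∈ W, u v ∈ W)
    (hWx : ∀ v ∈ W, x v ∈ W) (hu : ∀ v ∈ W, (u ^ p ^ a) v = v)
    (hx : ∀ v ∈ W, (x ^ p ^ b) v = v) :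
    ∃ i j : ℕ, ¬ (p ∣ i ∧ p ∣ j) ∧ ∃ v ∈ W, v ≠ 0 ∧ (u ^ i * x ^ j) v = v := by
  induction hn : a + b using Nat.strong_induction_on generalizing a b u x W with
  | _ n ih =>
  subst hn
  obtain ⟨v₀, hv₀, hv₀0⟩ : ∃ v ∈ W, v ≠ (0 : V) := by
    by_contra h
    push Not at h
    exact hW ((AddSubgroup.eq_bot_iff_forall W).2 h)
  have hp1 : ¬ p ∣ 1 := hp.out.not_dvd_one
  rcases Nat.eq_zero_or_pos a with rfl | ha0
  · refine ⟨1, 0, fun h => hp1 h.1, v₀, hv₀, hv₀0, ?_⟩
    simpa using hu v₀ hv₀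
  rcases Nat.eq_zero_or_pos b with rfl | hb0
  · refine ⟨0, 1, fun h => hp1 h.2, v₀, hv₀, hv₀0, ?_⟩
    simpa using hx v₀ hv₀
  -- the step for `c ≤ d`
  have step : ∀ (c d : ℕ) (s r : AddMonoid.End V), c + d = a + b → 0 < c → c ≤ d →
      Commute s r → (∀ v ∈ W, s v ∈ W) → (∀ v ∈ W, r v ∈ W) →
      (∀ v ∈ W, (s ^ p ^ c) v = v) → (∀ v ∈ W, (r ^ p ^ d) v = v) →
      ∃ i j : ℕ, ¬ (p ∣ i ∧ p ∣ j) ∧ ∃ v ∈ W, v ≠ 0 ∧ (s ^ i * r ^ j) v = v := by
    intro c d s r hcd hc hle hsr hWs hWr hs hr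
    obtain ⟨c, rfl⟩ := Nat.exists_eq_succ_of_ne_zero hc.ne'
    obtain ⟨d, rfl⟩ := Nat.exists_eq_add_of_le hle
    simp only [Nat.succ_eq_add_one] at *
    by_cases hfr : ∀ v ∈ W, (r ^ p ^ (c + d)) v = v → v = 0
    · obtain ⟨t, v, hv, hfix, hv0⟩ : ∃ t : ℕ, ∃ v ∈ W,
          (s ^ p ^ c * (r ^ p ^ (c + d)) ^ t) v = v ∧ v ≠ 0 := by
        by_contra h
        push Not at h
        refine hv₀0 (zero_aux (p := p) W (s ^ p ^ c) (r ^ p ^ (c + d)) (hsr.pow_pow _ _)
          (pow_mem_stable hWs _) (pow_mem_stable hWr _) ?_ ?_ hpV hfr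
          (fun t u hu hfu => h t u hu hfu) hv₀)
        · intro u hu'
          rw [← pow_mul, ← pow_succ]
          exact hs u hu'
        · intro u hu'
          rw [← pow_mul, ← pow_succ, show c + d + 1 = c + 1 + d by omega]
          exact hr u hu'
      set s' := s * r ^ (p ^ d * t) with hs'
      have hs'pow : s' ^ p ^ c = s ^ p ^ c * (r ^ p ^ (c + d)) ^ t := by
        rw [hs', (hsr.pow_right _).mul_pow, ← pow_mul, ← pow_mul, pow_add]
        congr 2
        ring
      have hc' : Commute s' r := hsr.mul_left ((Commute.refl r).pow_left _)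
      have hWs' : ∀ v ∈ W, s' v ∈ W := fun u hu' => by
        rw [hs', end_mul_apply]
        exact hWs _ (pow_mem_stable hWr _ u hu')
      obtain ⟨i, j, hij, u', ⟨hu'W, -⟩, hu'0, hu'fix⟩ := ih (c + (c + 1 + d)) (by omega)
        c (c + 1 + d) s' r hc' (W ⊓ fixSub (s' ^ p ^ c))
        (fun hb' => hv0 ((AddSubgroup.eq_bot_iff_forall _).1 hb' v
          ⟨hv, show (s' ^ p ^ c) v = v by rw [hs'pow]; exact hfix⟩))
        (fun u hu' => ⟨hWs' u hu'.1, fixSub_stable ((Commute.refl s').pow_left _) hu'.2⟩)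
        (fun u hu' => ⟨hWr u hu'.1, fixSub_stable (hc'.pow_left _) hu'.2⟩)
        (fun u hu' => hu'.2) (fun u hu' => hr u hu'.1) rfl
      refine ⟨i, p ^ d * t * i + j, fun h => hij ⟨h.1, ?_⟩, u', hu'W, hu'0, ?_⟩
      · exact (Nat.dvd_add_right (h.1.mul_left _)).1 h.2
      · rw [hs', (hsr.pow_right _).mul_pow, ← pow_mul, mul_assoc, ← pow_add] at hu'fix
        exact hu'fix
    · push Not at hfr
      obtain ⟨v, hv, hfix, hv0⟩ := hfr
      obtain ⟨i, j, hij, u', ⟨hu'W, -⟩, hu'0, hu'fix⟩ := ih (c + 1 + (c + d)) (by omega)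
        (c + 1) (c + d) s r hsr (W ⊓ fixSub (r ^ p ^ (c + d)))
        (fun hb' => hv0 ((AddSubgroup.eq_bot_iff_forall _).1 hb' v ⟨hv, hfix⟩))
        (fun u hu' => ⟨hWs u hu'.1, fixSub_stable (hsr.symm.pow_left _) hu'.2⟩)
        (fun u hu' => ⟨hWr u hu'.1, fixSub_stable ((Commute.refl r).pow_left _) hu'.2⟩)
        (fun u hu' => hs u hu'.1) (fun u hu' => hu'.2) rfl
      exact ⟨i, j, hij, u', hu'W, hu'0, hu'fix⟩
  rcases le_total a b with hab | hab
  · exact step a b u x rfl ha0 hab hux hWu hWx hu hx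
  · obtain ⟨i, j, hij, v, hv, hv0, hfix⟩ :=
      step b a x u (add_comm b a) hb0 hab hux.symm hWx hWu hx hu
    refine ⟨j, i, fun h => hij ⟨h.2, h.1⟩, v, hv, hv0, ?_⟩
    rw [(hux.pow_pow j i).eq]
    exact hfix

end Endos

variable {P : Type u} [Group P]

theorem pow_mul_central {g e c : P} (hc : ∀ x : P, Commute c x) (h : e * g = g * e * c)
    (m : ℕ) : e ^ m * g = g * e ^ m * c ^ m := by
  induction m with
  | zero => simp
  | succ m ih =>
    calc e ^ (m + 1) * g = e ^ m * (e * g) := by rw [pow_succ, mul_assoc]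
      _ = e ^ m * g * e * c := by rw [h]; simp only [mul_assoc]
      _ = g * e ^ m * (c ^ m * e) * c := by rw [ih]; simp only [mul_assoc]
      _ = g * e ^ m * (e * c ^ m) * c := by rw [((hc e).pow_left m).eq]
      _ = g * e ^ (m + 1) * c ^ (m + 1) := by simp only [pow_succ, mul_assoc]

/-- Powers of a product with a central commutator. -/
theorem mul_pow_of_central {g e c : P} (hc : ∀ x : P, Commute c x) (h : e * g = g * e * c)
    (n : ℕ) : (g * e) ^ n = g ^ n * e ^ n * c ^ n.choose 2 := by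
  have hen := pow_mul_central hc h
  induction n with
  | zero => simp
  | succ n ih =>
    calc (g * e) ^ (n + 1) = g ^ n * e ^ n * (c ^ n.choose 2 * (g * e)) := by
          rw [pow_succ, ih]; simp only [mul_assoc]
      _ = g ^ n * e ^ n * (g * e * c ^ n.choose 2) := by rw [((hc (g * e)).pow_left _).eq]
      _ = g ^ n * (e ^ n * g) * e * c ^ n.choose 2 := by simp only [mul_assoc]
      _ = g ^ n * g * e ^ n * (c ^ n * e) * c ^ n.choose 2 := by
          rw [hen]; simp only [mul_assoc]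
      _ = g ^ n * g * e ^ n * (e * c ^ n) * c ^ n.choose 2 := by rw [((hc e).pow_left n).eq]
      _ = g ^ (n + 1) * e ^ (n + 1) * c ^ (n + 1).choose 2 := by
          rw [Nat.choose_succ_succ n 1, Nat.choose_one_right]
          simp only [pow_succ, pow_add, mul_assoc]

variable [Finite P]

omit [Finite P] in
/-- Two independent elements of order `p` modulo `D` cannot commute modulo `z`. -/
theorem pair_false {p : ℕ} [hp : Fact p.Prime] (hp2 : p ≠ 2) (hP : IsPGroup p P)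
    (D : Subgroup P) [D.Normal] {z : P} (hzc : z ∈ Subgroup.center P) (hzD : z ∈ D)
    (hz : orderOf z = p) {V : Type w} [AddCommGroup V] [Nontrivial V]
    (hpV : ∀ v : V, p • v = 0 → v = 0) (ρ : P →* AddMonoid.End V)
    (hfpf : ∀ y : P, y ∉ D → ∀ v : V, ρ y v = v → v = 0) (hfz : ∀ v : V, ρ z v = v → v = 0)
    {g e : P} (hg : g ∉ D) (hgp : g ^ p ∈ D) (hep : e ^ p ∈ D)
    (he : g⁻¹ * (e * g * e⁻¹) ∈ Subgroup.zpowers z) :
    (e : P ⧸ D) ∈ Subgroup.zpowers (g : P ⧸ D) := by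
  by_contra hne
  obtain ⟨k, hk⟩ := he
  simp only at hk
  have hcen : ∀ x : P, Commute z x := fun x => (Subgroup.mem_center_iff.1 hzc x).symm
  have hzp : z ^ p = 1 := hz ▸ pow_orderOf_eq_one z
  set c := z ^ k with hcdef
  have hcc : ∀ x : P, Commute c x := fun x => (hcen x).zpow_left k
  have hcp1 : c ^ p = 1 := by
    rw [hcdef, ← zpow_natCast, ← zpow_mul, mul_comm, zpow_mul, zpow_natCast, hzp, one_zpow]
  have heg : e * g = g * e * c := by
    rw [mul_assoc, ← (hcc e).eq, hk]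
    group
  have hsc : SemiconjBy e g (g * c) := by
    show e * g = g * c * e
    rw [heg, mul_assoc, mul_assoc, (hcc e).eq]
  have hegp : Commute e (g ^ p) := by
    have h1 := hsc.pow_right p
    rwa [((hcc g).symm).mul_pow, hcp1, mul_one] at h1
  have hgep : Commute g (e ^ p) := by
    have hsc' : SemiconjBy g e (e * c⁻¹) := by
      show g * e = e * c⁻¹ * g
      rw [mul_assoc, ((hcc g).inv_left).eq, ← mul_assoc, heg, mul_inv_cancel_right]
    have h1 := hsc'.pow_right p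
    rwa [((hcc e).inv_left.symm).mul_pow, inv_pow, hcp1, inv_one, mul_one] at h1
  obtain ⟨a, ha⟩ := hP (g ^ p)
  obtain ⟨b, hb⟩ := hP (e ^ p)
  obtain ⟨i, j, hij, v, -, hv0, hv⟩ := exists_fixed (p := p) hpV a b (ρ (g ^ p)) (ρ (e ^ p))
    ((hgep.pow_left p).map ρ) ⊤ (by simp) (fun _ _ => trivial) (fun _ _ => trivial)
    (fun u _ => by rw [← map_pow, ha, map_one]; rfl)
    (fun u _ => by rw [← map_pow, hb, map_one]; rfl)
  set x := g ^ i * e ^ j with hxdef
  have hxD : x ∉ D := by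
    intro hx
    have hgq : (g : P ⧸ D) ^ p = 1 := by
      rw [← QuotientGroup.mk_pow, QuotientGroup.eq_one_iff]; exact hgp
    have heq : (e : P ⧸ D) ^ p = 1 := by
      rw [← QuotientGroup.mk_pow, QuotientGroup.eq_one_iff]; exact hep
    have h1 : (g : P ⧸ D) ^ i * (e : P ⧸ D) ^ j = 1 := by
      rw [← QuotientGroup.mk_pow, ← QuotientGroup.mk_pow, ← QuotientGroup.mk_mul,
        QuotientGroup.eq_one_iff]
      exact hx
    have hg1 : (g : P ⧸ D) ≠ 1 := fun h => hg ((QuotientGroup.eq_one_iff g).1 h)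
    by_cases hpj : p ∣ j
    · obtain ⟨j', rfl⟩ := hpj
      rw [pow_mul, heq, one_pow, mul_one] at h1
      have hord := orderOf_eq_prime hgq hg1
      exact hij ⟨hord ▸ orderOf_dvd_of_pow_eq_one h1, dvd_mul_right p j'⟩
    · apply hne
      have hej : (e : P ⧸ D) ^ j ∈ Subgroup.zpowers (g : P ⧸ D) := by
        rw [eq_inv_of_mul_eq_one_right h1]
        exact inv_mem (pow_mem (Subgroup.mem_zpowers _) i)
      have hcop : (orderOf (e : P ⧸ D)).Coprime j :=
        Nat.Coprime.coprime_dvd_left (orderOf_dvd_of_pow_eq_one heq)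
          (hp.out.coprime_iff_not_dvd.2 hpj)
      obtain ⟨m, hm⟩ := exists_pow_eq_self_of_coprime hcop.symm
      rw [← hm]
      exact pow_mem hej m
  have hxp : x ^ p = (g ^ p) ^ i * (e ^ p) ^ j := by
    have hh : e ^ j * g ^ i = g ^ i * e ^ j * c ^ (i * j) := by
      have h1 : SemiconjBy (e ^ j) g (g * c ^ j) := by
        show e ^ j * g = g * c ^ j * e ^ j
        rw [pow_mul_central hcc heg j, mul_assoc, mul_assoc, ((hcc (e ^ j)).pow_left j).eq]
      have h2 := h1.pow_right i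
      rw [((hcc g).pow_left j).symm.mul_pow, ← pow_mul, mul_comm j i] at h2
      rw [h2.eq, mul_assoc, ((hcc (e ^ j)).pow_left (i * j)).eq, mul_assoc]
    rw [hxdef, mul_pow_of_central (fun y => (hcc y).pow_left (i * j)) hh p, ← pow_mul, ← pow_mul,
      ← pow_mul, mul_comm i p, mul_comm j p, pow_mul, pow_mul]
    have hdvd : p ∣ i * j * p.choose 2 :=
      (hp.out.dvd_choose_self two_ne_zero (lt_of_le_of_ne hp.out.two_le (Ne.symm hp2))).mul_left _
    obtain ⟨r, hr⟩ := hdvd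
    rw [hr, pow_mul, hcp1, one_pow, mul_one, ← pow_mul, ← pow_mul]
  have hvW : v ∈ fixSub (ρ (x ^ p)) := by
    rw [mem_fixSub, hxp, map_mul ρ]
    rwa [← map_pow ρ _ i, ← map_pow ρ _ j] at hv
  refine hv0 (zero_aux (p := p) (fixSub (ρ (x ^ p))) (ρ x) (ρ z) ((hcen x).symm.map ρ)
    (fun u hu => fixSub_stable (((Commute.refl x).pow_left p).map ρ) hu)
    (fun u hu => fixSub_stable ((hcen (x ^ p)).symm.map ρ) hu)
    (fun u hu => by rw [← map_pow]; exact hu)
    (fun u _ => by rw [← map_pow, hzp, map_one]; rfl) hpV (fun u _ => hfz u) ?_ hvW)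
  intro t u _ hu
  refine hfpf (x * z ^ t) (fun h => hxD ((Subgroup.mul_mem_cancel_right D (pow_mem hzD t)).1 h)) u ?_
  rwa [map_mul, map_pow]

/-- An element centralising `g` modulo `z` is, modulo `D`, in the centraliser of `g`. -/
theorem exists_centralizer_mul {p : ℕ} [Fact p.Prime] (hp2 : p ≠ 2) (hP : IsPGroup p P)
    (D : Subgroup P) [D.Normal] (hcp : Cfsg.Agent.Camina.IsCP D) {z : P}
    (hzc : z ∈ Subgroup.center P) (hzD : z ∈ D) (hz : orderOf z = p) {V : Type w}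
    [AddCommGroup V] [Finite V] [Nontrivial V]
    (hpV : ∀ v : V, p • v = 0 → v = 0) (ρ : P →* AddMonoid.End V)
    (hfpf : ∀ y : P, y ∉ D → ∀ v : V, ρ y v = v → v = 0) (hfz : ∀ v : V, ρ z v = v → v = 0)
    {g y : P} (hg : g ∉ D) (hgp : g ^ p ∈ D)
    (hy : g⁻¹ * (y * g * y⁻¹) ∈ Subgroup.zpowers z) :
    ∃ c ∈ Subgroup.centralizer ({g} : Set P), c⁻¹ * y ∈ D := by
  classical
  set π := QuotientGroup.mk' D with hπ
  have hcen : ∀ s ∈ Subgroup.zpowers z, ∀ x : P, Commute s x := by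
    rintro s ⟨k, rfl⟩ x
    exact Commute.zpow_left ((Subgroup.mem_center_iff.1 hzc x).symm : Commute z x) k
  let Y : Subgroup P :=
    { carrier := {w | g⁻¹ * (w * g * w⁻¹) ∈ Subgroup.zpowers z}
      one_mem' := by simp
      mul_mem' := by
        intro w₁ w₂ h₁ h₂
        simp only [Set.mem_ofPred_eq] at *
        have : g⁻¹ * (w₁ * w₂ * g * (w₁ * w₂)⁻¹) =
            g⁻¹ * (w₁ * g * w₁⁻¹) * (g⁻¹ * (w₂ * g * w₂⁻¹)) :=
          calc _ = g⁻¹ * (w₁ * g * ((g⁻¹ * (w₂ * g * w₂⁻¹)) * w₁⁻¹)) := by group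
            _ = g⁻¹ * (w₁ * g * (w₁⁻¹ * (g⁻¹ * (w₂ * g * w₂⁻¹)))) := by
                rw [(hcen _ h₂ w₁⁻¹).eq]
            _ = _ := by group
        rw [this]
        exact mul_mem h₁ h₂
      inv_mem' := by
        intro w h
        simp only [Set.mem_ofPred_eq, inv_inv] at *
        have : g⁻¹ * (w⁻¹ * g * w) = (g⁻¹ * (w * g * w⁻¹))⁻¹ :=
          calc _ = g⁻¹ * (w⁻¹ * g * ((g⁻¹ * (w * g * w⁻¹)) * (g⁻¹ * (w * g * w⁻¹))⁻¹ * w)) := by group
            _ = g⁻¹ * (w⁻¹ * g * ((g⁻¹ * (w * g * w⁻¹)) * (w * (g⁻¹ * (w * g * w⁻¹))⁻¹))) := by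
                rw [mul_assoc _ _ w, ((hcen _ h w).inv_left).eq]
            _ = _ := by group
        rw [this]
        exact inv_mem h }
  have hgY : g ∈ Y := show g⁻¹ * (g * g * g⁻¹) ∈ Subgroup.zpowers z by simp
  have hord : ∀ q ∈ Y.map π, q ^ p = 1 → q ∈ Subgroup.zpowers (π g) := by
    rintro _ ⟨e, he, rfl⟩ hq
    refine pair_false hp2 hP D hzc hzD hz hpV ρ hfpf hfz hg hgp ?_ he
    rwa [← map_pow, hπ, QuotientGroup.mk'_apply, QuotientGroup.eq_one_iff] at hq
  have hπg : orderOf (π g) = p := by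
    refine orderOf_eq_prime ?_ fun h => hg ((QuotientGroup.eq_one_iff g).1 h)
    rw [← map_pow, hπ, QuotientGroup.mk'_apply, QuotientGroup.eq_one_iff]
    exact hgp
  have hYp : IsPGroup p ↥(Y.map π) := ((hP.to_subgroup Y).map π : IsPGroup p ↥(Y.map π))
  obtain ⟨m, hm⟩ := hYp.exists_card_eq
  have hcyc : IsCyclic ↥(Y.map π) := by
    rcases lt_or_ge 1 m with hm1 | hm1
    · refine S3977.result p m 1 Fact.out hm le_rfl hm1 (Or.inl hp2) fun H K hH hK => ?_
      have key : ∀ L : Subgroup ↥(Y.map π), Nat.card L = p ^ 1 →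
          L.map (Y.map π).subtype = Subgroup.zpowers (π g) := by
        intro L hL
        rw [pow_one] at hL
        have hle : L.map (Y.map π).subtype ≤ Subgroup.zpowers (π g) := by
          rintro _ ⟨q, hq, rfl⟩
          have hqp : q ^ p = 1 := by
            have h1 : ((⟨q, hq⟩ : L) ^ Nat.card L) = 1 := pow_card_eq_one'
            rw [hL] at h1
            simpa using congrArg Subtype.val h1
          exact hord _ q.2 (by simpa using congrArg Subtype.val hqp)
        refine Subgroup.eq_of_le_of_card_ge hle (le_of_eq ?_)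
        rw [Subgroup.card_map_of_injective (Y.map π).subtype_injective, hL, Nat.card_zpowers, hπg]
      exact Subgroup.map_injective (Y.map π).subtype_injective ((key H hH).trans (key K hK).symm)
    · interval_cases m
      · have := (Nat.card_eq_one_iff_unique.1 (hm.trans (pow_zero p))).1
        exact isCyclic_of_subsingleton
      · exact isCyclic_of_prime_card (p := p) (by simpa using hm)
  obtain ⟨q₀, hq₀⟩ := (Subgroup.isCyclic_iff_exists_zpowers_eq_top _).1 hcyc
  have hq₀Y : q₀ ∈ Y.map π := hq₀ ▸ Subgroup.mem_zpowers q₀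
  obtain ⟨y₀, -, rfl⟩ := id hq₀Y
  obtain ⟨k, hk⟩ : π g ∈ Subgroup.zpowers (π y₀) := hq₀.symm ▸ ⟨g, hgY, rfl⟩
  simp only [← map_zpow] at hk
  obtain ⟨x, hx⟩ := hcp g hg (g⁻¹ * y₀ ^ k) (QuotientGroup.eq.1 hk.symm)
  rw [mul_inv_cancel_left] at hx
  set C := (Subgroup.centralizer ({g} : Set P)).map π with hC
  have hCY : C ≤ Y.map π := by
    refine Subgroup.map_mono fun c hc => ?_
    rw [Subgroup.mem_centralizer_singleton_iff] at hc
    refine (show g⁻¹ * (c * g * c⁻¹) ∈ Subgroup.zpowers z from ?_)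
    simp [hc]
  have hYC : Y.map π ≤ C.map (MulAut.conj (π x)).toMonoidHom := by
    rw [← hq₀, Subgroup.zpowers_le]
    refine ⟨π (x⁻¹ * y₀ * x), ⟨x⁻¹ * y₀ * x, ?_, rfl⟩, ?_⟩
    · rw [SetLike.mem_coe, Subgroup.mem_centralizer_singleton_iff]
      have hc0 : Commute y₀ (y₀ ^ k) := (Commute.refl y₀).zpow_right k
      rw [← hx] at hc0
      calc x⁻¹ * y₀ * x * g = x⁻¹ * (y₀ * (x * g * x⁻¹)) * x := by group
        _ = x⁻¹ * ((x * g * x⁻¹) * y₀) * x := by rw [hc0.eq]
        _ = _ := by group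
    · simp only [MulEquiv.coe_toMonoidHom, MulAut.conj_apply, map_mul, map_inv]
      group
  have heq : C = Y.map π := by
    refine Subgroup.eq_of_le_of_card_ge hCY ?_
    refine (Subgroup.card_le_of_le hYC).trans (le_of_eq ?_)
    exact Subgroup.card_map_of_injective (MulAut.conj (π x)).injective
  obtain ⟨c, hc, hcy⟩ : π y ∈ C := heq.symm ▸ ⟨y, hy, rfl⟩
  exact ⟨c, hc, QuotientGroup.eq.1 hcy⟩

end Cfsg.Agent.CaminaFpf
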