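import Cfsg.Agent.CaminaFpf.Local
import Cfsg.Agent.CaminaFpf.Fixed
import Cfsg.Agent.CaminaFpf.Chain
import Cfsg.Agent.ClassCount.Camina
import Cfsg.Agent.Transfer.Tate
import Cfsg.Agent.Char.Kernel
import Cfsg.Agent.S4142

/-!
No Camina pair of `p`-groups (`p` odd) acts fixed-point-freely outside the normal subgroup on a
non-trivial abelian group of coprime order.
-/

set_option autoImplicit false

namespace Cfsg.Agent.CaminaFpf

open Subgroup

universe u w

variable {P : Type u} [Group P] [Finite P]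

theorem card_eq_card_map_mul_card_inf {H : Type u} [Group H] (q : P →* H) (K : Subgroup P) :
    Nat.card ↥(K.map q) * Nat.card ↥(q.ker ⊓ K) = Nat.card K := by
  have h := Subgroup.card_eq_card_quotient_mul_card_subgroup (q.domRestrict K).ker
  rw [Nat.card_congr (QuotientGroup.quotientKerEquivRange (q.domRestrict K)).toEquiv,
    MonoidHom.domRestrict_range, MonoidHom.ker_domRestrict,
    ← Nat.card_congr (Subgroup.subgroupOfEquivOfLe (inf_le_right : q.ker ⊓ K ≤ K)).toEquiv,
    Subgroup.inf_subgroupOf_right] at *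
  exact h.symm

/-- The quotient centralisers of a Camina pair. -/
theorem card_centralizer_mod {p : ℕ} [Fact p.Prime] (hP : IsPGroup p P) (D : Subgroup P) [D.Normal]
    (hcp : Camina.IsCP D) {z g : P} (hzc : z ∈ center P) (hzD : z ∈ D) (hz : orderOf z = p)
    [(zpowers z).Normal] (hg : g ∉ D)
    (hY : ∀ y : P, g⁻¹ * (y * g * y⁻¹) ∈ zpowers z → ∃ c ∈ centralizer ({g} : Set P), c⁻¹ * y ∈ D) :
    Nat.card ↥(D.map (QuotientGroup.mk' (zpowers z)) ⊓
        centralizer ({(QuotientGroup.mk' (zpowers z)) g} : Set (P ⧸ zpowers z))) =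
      Nat.card ↥(D ⊓ centralizer ({g} : Set P)) := by
  classical
  set Z := zpowers z with hZdef
  set π := QuotientGroup.mk' Z with hπ
  have hZD : Z ≤ D := zpowers_le.2 hzD
  set D' := D.map π with hD'
  haveI : D'.Normal := Subgroup.Normal.map inferInstance _ (QuotientGroup.mk'_surjective Z)
  set C : Subgroup P := centralizer ({g} : Set P) with hC
  set Y : Subgroup P := (centralizer ({π g} : Set (P ⧸ Z))).comap π with hYdef
  have hg' : π g ∉ D' := by
    rintro ⟨d, hd, hde⟩
    have h1 : d⁻¹ * g ∈ Z := QuotientGroup.eq.1 hde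
    exact hg (by simpa using mul_mem hd (hZD h1))
  have hmemY : ∀ y : P, y ∈ Y ↔ g⁻¹ * (y * g * y⁻¹) ∈ Z := by
    intro y
    rw [hYdef, mem_comap, mem_centralizer_singleton_iff, ← QuotientGroup.eq_one_iff,
      QuotientGroup.mk_mul, QuotientGroup.mk_mul, QuotientGroup.mk_mul, QuotientGroup.mk_inv,
      QuotientGroup.mk_inv, inv_mul_eq_one, eq_mul_inv_iff_mul_eq]
    exact eq_comm
  have hCY : C ≤ Y := by
    intro c hc
    rw [hmemY, mem_centralizer_singleton_iff.1 hc, mul_inv_cancel_right, inv_mul_cancel]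
    exact one_mem Z
  have hcards : Nat.card (centralizer ({π g} : Set (P ⧸ Z))) = Nat.card C := by
    rw [(S4142.result D).1 hcp g hg, (S4142.result D').1 (hcp.map Z) (π g) hg']
    refine Nat.card_congr (MulEquiv.toEquiv ?_)
    refine (MulEquiv.subgroupCongr ?_).trans
      (((centralizer ({(QuotientGroup.mk g : P ⧸ D)} : Set (P ⧸ D))).equivMapOfInjective
        (QuotientGroup.quotientQuotientEquivQuotient Z D hZD).symm.toMonoidHom
        (QuotientGroup.quotientQuotientEquivQuotient Z D hZD).symm.injective)).symm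
    ext q
    rw [Subgroup.mem_map_equiv, MulEquiv.symm_symm, mem_centralizer_singleton_iff,
      mem_centralizer_singleton_iff]
    rw [← (QuotientGroup.quotientQuotientEquivQuotient Z D hZD).injective.eq_iff, map_mul, map_mul]
    rfl
  have hY1 : Y.map π = centralizer ({π g} : Set (P ⧸ Z)) :=
    Subgroup.map_comap_eq_self_of_surjective (QuotientGroup.mk'_surjective Z) _
  have hY2 : (Y ⊓ D).map π = D' ⊓ centralizer ({π g} : Set (P ⧸ Z)) := by
    apply le_antisymm
    · rw [hD', ← hY1]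
      exact le_inf (map_mono inf_le_right) (map_mono inf_le_left)
    · rintro _ ⟨⟨d, hd, rfl⟩, hq⟩
      exact ⟨d, ⟨hq, hd⟩, rfl⟩
  have hker : π.ker = Z := QuotientGroup.ker_mk' Z
  have hZY : Z ≤ Y := fun t ht => by
    rw [hYdef, mem_comap, show π t = 1 from (QuotientGroup.eq_one_iff t).2 ht]
    exact one_mem _
  have e1 := card_eq_card_map_mul_card_inf π Y
  have e2 := card_eq_card_map_mul_card_inf π (Y ⊓ D)
  rw [hY1, hker, inf_eq_left.2 hZY, hcards] at e1
  rw [hY2, hker, inf_eq_left.2 (le_inf hZY hZD)] at e2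
  have e3 := card_eq_card_map_mul_card_inf (QuotientGroup.mk' D) Y
  have e4 := card_eq_card_map_mul_card_inf (QuotientGroup.mk' D) C
  rw [QuotientGroup.ker_mk'] at e3 e4
  have himg : Y.map (QuotientGroup.mk' D) = C.map (QuotientGroup.mk' D) := by
    refine le_antisymm ?_ (map_mono hCY)
    rintro _ ⟨y, hy, rfl⟩
    obtain ⟨c, hc, hcy⟩ := hY y ((hmemY y).1 hy)
    exact ⟨c, hc, QuotientGroup.eq.2 hcy⟩
  rw [himg] at e3
  rw [inf_comm Y D] at e2
  -- combine
  set a := Nat.card ↥(C.map (QuotientGroup.mk' D))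
  set b := Nat.card ↥(D ⊓ Y)
  set c := Nat.card ↥(D ⊓ C)
  set x := Nat.card ↥(D' ⊓ centralizer ({π g} : Set (P ⧸ Z)))
  have ha : 0 < a := Nat.card_pos
  have hz0 : 0 < Nat.card Z := Nat.card_pos
  have h1 : a * (x * Nat.card Z) = a * (c * Nat.card Z) := by
    rw [e2, e3, ← mul_assoc, e4, e1]
  exact Nat.eq_of_mul_eq_mul_right hz0 (Nat.eq_of_mul_eq_mul_left ha h1)

/-- An element of order `p` modulo `D` moves every irreducible character of `D` non-trivial on `z`. -/
theorem trivial_of_fixed {p : ℕ} [Fact p.Prime] (hP : IsPGroup p P) (D : Subgroup P) [D.Normal]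
    (hcp : Camina.IsCP D) {z g : P} (hzc : z ∈ center P) (hzD : z ∈ D) (hz : orderOf z = p)
    (hg : g ∉ D)
    (hY : ∀ y : P, g⁻¹ * (y * g * y⁻¹) ∈ zpowers z → ∃ c ∈ centralizer ({g} : Set P), c⁻¹ * y ∈ D)
    (χ : Cfsg.IrrCharacter ↥D)
    (hfix : (χ : ↥D → ℂ) ∘ (MulAut.conjNormal g : MulAut ↥D) = (χ : ↥D → ℂ)) :
    (χ : ↥D → ℂ) ⟨z, hzD⟩ = (χ : ↥D → ℂ) 1 := by
  classical
  haveI : (zpowers z).Normal := ⟨fun t ht y => by
    rw [Subgroup.mem_center_iff.1 ((zpowers_le.2 hzc) ht) y, mul_inv_cancel_right]; exact ht⟩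
  set π := QuotientGroup.mk' (zpowers z) with hπ
  set D' := D.map π with hD'
  haveI : D'.Normal := Subgroup.Normal.map inferInstance _ (QuotientGroup.mk'_surjective _)
  have hg' : π g ∉ D' := by
    rintro ⟨d, hd, hde⟩
    have h1 : d⁻¹ * g ∈ zpowers z := QuotientGroup.eq.1 hde
    exact hg (by simpa using mul_mem hd ((zpowers_le.2 hzD) h1))
  let f : ↥D →* ↥D' := π.subgroupMap D
  have hf : Function.Surjective f := π.subgroupMap_surjective D
  have hcomm : ∀ d : ↥D, f ((MulAut.conjNormal g : MulAut ↥D) d) =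
      (MulAut.conjNormal (π g) : MulAut ↥D') (f d) := by
    intro d
    apply Subtype.ext
    rw [MulAut.conjNormal_apply]
    show π ((MulAut.conjNormal g d : ↥D) : P) = π g * π (d : P) * (π g)⁻¹
    rw [MulAut.conjNormal_apply, map_mul, map_mul, map_inv]
  let A := {ψ : Cfsg.IrrCharacter ↥D' //
    (ψ : ↥D' → ℂ) ∘ (MulAut.conjNormal (π g) : MulAut ↥D') = (ψ : ↥D' → ℂ)}
  let B := {χ : Cfsg.IrrCharacter ↥D //
    (χ : ↥D → ℂ) ∘ (MulAut.conjNormal g : MulAut ↥D) = (χ : ↥D → ℂ)}
  let inf : A → B := fun ψ => ⟨⟨(ψ.1 : ↥D' → ℂ) ∘ f, Char.isIrrCharacter_comp ψ.1.2 f hf⟩,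
    funext fun d => by
      show (ψ.1 : ↥D' → ℂ) (f _) = (ψ.1 : ↥D' → ℂ) (f d)
      rw [hcomm]; exact congrFun ψ.2 (f d)⟩
  have hinj : Function.Injective inf := by
    intro a b hab
    refine Subtype.ext (Subtype.ext (funext fun t => ?_))
    obtain ⟨d, rfl⟩ := hf t
    exact congrFun (congrArg (fun s : B => ((s.1 : Cfsg.IrrCharacter ↥D) : ↥D → ℂ)) hab) d
  haveI : Finite B := Finite.of_injective (fun s : B => s.1) Subtype.val_injective
  have hcard : Nat.card A = Nat.card B := by
    rw [card_fixed_irr D' (π g) ?_, card_fixed_irr D g ?_,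
      card_centralizer_mod hP D hcp hzc hzD hz hg hY]
    · exact fun n hn => hcp g hg n hn
    · exact fun n hn => hcp.map _ (π g) hg' n hn
  obtain ⟨ψ, hψ⟩ := ((Nat.bijective_iff_injective_and_card inf).2 ⟨hinj, hcard⟩).surjective ⟨χ, hfix⟩
  have h1 : ((inf ψ).1 : ↥D → ℂ) = (χ : ↥D → ℂ) := congrArg (fun s : B => ((s.1 : Cfsg.IrrCharacter ↥D) : ↥D → ℂ)) hψ
  rw [← h1]
  show (ψ.1 : ↥D' → ℂ) (f ⟨z, hzD⟩) = (ψ.1 : ↥D' → ℂ) (f 1)
  have hfz : f ⟨z, hzD⟩ = 1 := by
    apply Subtype.ext
    show π z = 1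
    exact (QuotientGroup.eq_one_iff z).2 (mem_zpowers z)
  rw [map_one, hfz]

/-- The restriction of an action to an invariant additive subgroup. -/
def restrictEnd {V : Type w} [AddCommGroup V] (U : AddSubgroup V) (ρ : P →* AddMonoid.End V)
    (hU : ∀ y, ∀ v ∈ U, ρ y v ∈ U) : P →* AddMonoid.End U where
  toFun y := { toFun := fun v => ⟨ρ y v, hU y v v.2⟩
               map_zero' := Subtype.ext (map_zero (ρ y))
               map_add' := fun a b => Subtype.ext (map_add (ρ y) (a : V) b) }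
  map_one' := by
    ext v
    show ρ 1 (v : V) = v
    rw [map_one]; rfl
  map_mul' a b := by
    ext v
    show ρ (a * b) (v : V) = ρ a (ρ b v)
    rw [map_mul]; rfl

theorem restrictEnd_apply {V : Type w} [AddCommGroup V] (U : AddSubgroup V) (ρ : P →* AddMonoid.End V)
    (hU : ∀ y, ∀ v ∈ U, ρ y v ∈ U) (y : P) (v : U) : (restrictEnd U ρ hU y v : V) = ρ y v := rfl

theorem no_module_aux : ∀ (m : ℕ) (P : Type u) [Group P] [Finite P], Nat.card P = m →
    ∀ {p : ℕ} [Fact p.Prime], p ≠ 2 → IsPGroup p P → ∀ (D : Subgroup P) [D.Normal], D ≠ ⊥ → D ≠ ⊤ →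
    Camina.IsCP D → ∀ (V : Type w) [AddCommGroup V] [Finite V] [Nontrivial V],
    (∀ v : V, p • v = 0 → v = 0) → ∀ ρ : P →* AddMonoid.End V,
    (∀ y : P, y ∉ D → ∀ v : V, ρ y v = v → v = 0) → False := by
  intro m
  induction m using Nat.strong_induction_on with
  | _ m IH =>
  intro P _ _ hm p hp hp2 hP D hDn hD1 hDT hcp V _ _ _ hpV ρ hfpf
  classical
  obtain ⟨z, hzD, hzc, hz⟩ := Transfer.exists_central_orderOf_eq_prime hP D hD1
  have hidx : p ∣ D.index := by
    obtain ⟨i, hi⟩ := hP.index D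
    rcases Nat.eq_zero_or_pos i with rfl | hi0
    · exact absurd (Subgroup.index_eq_one.1 (by rw [hi, pow_zero])) hDT
    · rw [hi]; exact dvd_pow_self p hi0.ne'
  have hDp : p ∣ Nat.card D := hz ▸ Subgroup.orderOf_dvd_natCard D hzD
  by_cases hfz : ∀ v : V, ρ z v = v → v = 0
  · -- a character which is non-trivial on `z` has a free orbit
    have hz1 : (⟨z, hzD⟩ : ↥D) ≠ 1 := fun e => by
      rw [show z = 1 from congrArg Subtype.val e, orderOf_one] at hz
      exact hp.out.ne_one hz.symm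
    obtain ⟨χ, hχ⟩ := Char.exists_irr_ne_degree hz1
    refine no_free_char hP D hD1 hDT hcp χ fun y hy => ?_
    by_contra hyD
    have hfixpow : ∀ n : ℕ, (χ : ↥D → ℂ) ∘ (MulAut.conjNormal (y ^ n) : MulAut ↥D) = (χ : ↥D → ℂ) := by
      intro n
      induction n with
      | zero => rw [pow_zero, map_one]; rfl
      | succ n ih =>
        rw [pow_succ, map_mul, MulAut.coe_mul, ← Function.comp_assoc, ih, hy]
    obtain ⟨e, he⟩ := hP.exists_pow_pow_eq_one y |> fun h => (⟨_, h.choose_spec⟩ : ∃ e, y ^ p ^ e = 1)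
    have hex : ∃ i, y ^ p ^ i ∈ D := ⟨e, by rw [he]; exact one_mem D⟩
    set i := Nat.find hex with hi
    have hi0 : i ≠ 0 := fun h0 => hyD (by
      have := Nat.find_spec hex; rwa [← hi, h0, pow_zero, pow_one] at this)
    set g := y ^ p ^ (i - 1) with hg
    have hgD : g ∉ D := Nat.find_min hex (by omega)
    have hgp : g ^ p ∈ D := by
      rw [hg, ← pow_mul, ← pow_succ, Nat.sub_add_cancel (by omega : 1 ≤ i)]
      exact Nat.find_spec hex
    exact hχ (trivial_of_fixed hP D hcp hzc hzD hz hgD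
      (fun t ht => exists_centralizer_mul hp2 hP D hcp hzc hzD hz hpV ρ hfpf hfz hgD hgp ht)
      χ (hfixpow _))
  · push Not at hfz
    obtain ⟨v₀, hv₀, hv₀0⟩ := hfz
    let U : AddSubgroup V :=
      { carrier := {v | ρ z v = v}
        zero_mem' := map_zero (ρ z)
        add_mem' := fun {a b} (ha : ρ z a = a) (hb : ρ z b = b) => by
          show ρ z (a + b) = a + b
          rw [map_add, ha, hb]
        neg_mem' := fun {a} (ha : ρ z a = a) => by
          show ρ z (-a) = -a
          rw [map_neg, ha] }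
    have hU : ∀ y, ∀ v ∈ U, ρ y v ∈ U := by
      intro y v hv
      show ρ z (ρ y v) = ρ y v
      have : ρ z (ρ y v) = (ρ (z * y)) v := by rw [map_mul]; rfl
      rw [this, ← Subgroup.mem_center_iff.1 hzc y, map_mul]
      show ρ y (ρ z v) = ρ y v
      rw [show ρ z v = v from hv]
    set σ := restrictEnd U ρ hU with hσ
    haveI : Nontrivial U := ⟨⟨v₀, hv₀⟩, 0, fun e => hv₀0 (congrArg Subtype.val e)⟩
    have hpU : ∀ v : U, p • v = 0 → v = 0 := fun v hv => Subtype.ext (hpV v (congrArg Subtype.val hv))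
    have hσfpf : ∀ y : P, y ∉ D → ∀ v : U, σ y v = v → v = 0 := fun y hy v hv =>
      Subtype.ext (hfpf y hy v (congrArg Subtype.val hv))
    have hZker : zpowers z ≤ σ.ker := zpowers_le.2 (AddMonoidHom.ext fun v => Subtype.ext v.2)
    haveI : (zpowers z).Normal := ⟨fun t ht y => by
      rw [Subgroup.mem_center_iff.1 ((zpowers_le.2 hzc) ht) y, mul_inv_cancel_right]; exact ht⟩
    by_cases hDZ : D = zpowers z
    · -- two independent elements of order `p` modulo the kernel
      let S : Sylow p P := Classical.choice inferInstance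
      have hS : ∀ t : P, t ∈ (S : Subgroup P) := fun t => by
        have e : (⊤ : Subgroup P) = (S : Subgroup P) := S.3 (hP.to_subgroup ⊤) le_top
        exact e ▸ Subgroup.mem_top t
      obtain ⟨g, hgP, hg, hgp, hc⟩ := Camina.exists_central_element D hidx S
      obtain ⟨w, hwP, hw, hwp, hind⟩ := hcp.exists_independent hDp S hgP hg hgp hc
      have hker : D ≤ σ.ker := hDZ ▸ hZker
      have hone : ∀ t ∈ D, σ t = 1 := fun t ht => hker ht
      have hcom : Commute (σ w) (σ g) := by
        have h1 := hone _ (hc w (hS w))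
        rw [map_mul] at h1
        show σ w * σ g = σ g * σ w
        have h2 : σ (g * (g⁻¹ * (w * g * w⁻¹)) * w) = σ g * σ w := by
          rw [map_mul, map_mul, map_mul, h1, mul_one]
        rw [← h2, ← map_mul]
        congr 1
        group
      obtain ⟨u, hu⟩ := exists_ne (0 : U)
      refine hu (eq_zero_of_pair (p := p) (σ w) (σ g) hcom ?_ ?_ hpU (hσfpf g hg) (fun t v hv => ?_) u)
      · rw [← map_pow]; exact hone _ hwp
      · rw [← map_pow]; exact hone _ hgp
      · refine hσfpf (w * g ^ t) (fun hmem => hind ((p - 1) * t) ?_) v (by rw [map_mul, map_pow]; exact hv)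
        have h2 : g ^ t * w ∈ D := (inferInstance : D.Normal).mem_comm hmem
        have h3 : (g ^ (p * t))⁻¹ * (g ^ t * w) ∈ D :=
          mul_mem (inv_mem (by rw [pow_mul]; exact pow_mem hgp t)) h2
        have h4 : (p - 1) * t + t = p * t := by
          rw [← Nat.succ_mul, Nat.succ_eq_add_one, Nat.sub_add_cancel hp.out.one_le]
        rw [← h4, ← mul_assoc] at h3
        have h5 : (g ^ ((p - 1) * t + t))⁻¹ * g ^ t = (g ^ ((p - 1) * t))⁻¹ := by
          rw [pow_add, ← (Commute.pow_pow_self g t ((p - 1) * t)).eq, mul_inv_rev, inv_mul_cancel_right]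
        rwa [h5] at h3
    · let τ : P ⧸ zpowers z →* AddMonoid.End U := QuotientGroup.lift (zpowers z) σ hZker
      have hlt : Nat.card (P ⧸ zpowers z) < m := by
        have h1 := Subgroup.card_eq_card_quotient_mul_card_subgroup (zpowers z)
        rw [Nat.card_zpowers, hz] at h1
        have := hp.out.two_le
        have : 0 < Nat.card (P ⧸ zpowers z) := Nat.card_pos
        nlinarith
      haveI : (D.map (QuotientGroup.mk' (zpowers z))).Normal :=
        Subgroup.Normal.map inferInstance _ (QuotientGroup.mk'_surjective _)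
      have hcomap : (D.map (QuotientGroup.mk' (zpowers z))).comap (QuotientGroup.mk' (zpowers z)) = D :=
        Subgroup.comap_map_eq_self (by rw [QuotientGroup.ker_mk']; exact zpowers_le.2 hzD)
      refine IH _ hlt (P ⧸ zpowers z) rfl hp2 (hP.to_quotient _) _ ?_ ?_ (hcp.map _) U hpU τ ?_
      · intro e
        rw [Subgroup.map_eq_bot_iff, QuotientGroup.ker_mk'] at e
        exact hDZ (le_antisymm e (zpowers_le.2 hzD))
      · intro e
        rw [e, Subgroup.comap_top] at hcomap
        exact hDT hcomap.symm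
      · intro q hq v hv
        obtain ⟨y, rfl⟩ := QuotientGroup.mk'_surjective _ q
        exact hσfpf y (fun hy => hq ⟨y, hy, rfl⟩) v hv

/-- No Camina pair of `p`-groups, `p` odd, acts fixed-point-freely outside `D` on a non-trivial
abelian group without `p`-torsion. -/
theorem no_module {p : ℕ} [Fact p.Prime] (hp2 : p ≠ 2) (hP : IsPGroup p P) (D : Subgroup P)
    [D.Normal] (hD1 : D ≠ ⊥) (hDT : D ≠ ⊤) (hcp : Camina.IsCP D) {V : Type w} [AddCommGroup V]
    [Finite V] [Nontrivial V] (hpV : ∀ v : V, p • v = 0 → v = 0) (ρ : P →* AddMonoid.End V)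
    (hfpf : ∀ y : P, y ∉ D → ∀ v : V, ρ y v = v → v = 0) : False :=
  no_module_aux _ P rfl hp2 hP D hD1 hDT hcp V hpV ρ hfpf

end Cfsg.Agent.CaminaFpf
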