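import Cfsg.Agent.CaminaFpf.Main
import Cfsg.Agent.ClassCount.Camina
import Cfsg.Agent.S0205

/-!
The normal subgroup of a Camina pair is soluble.
-/

set_option autoImplicit false

namespace Cfsg.Agent.CaminaFpf

open Subgroup

universe u

variable {G : Type u} [Group G] [Finite G]

/-- When the quotient is a `p`-group, `p` odd, the normal subgroup is a `p`-group. -/
theorem isPGroup_of_index_eq_pow {p : ℕ} [hp : Fact p.Prime] (hp2 : p ≠ 2) (N : Subgroup G) [N.Normal]
    (h : Camina.IsCP N) {a : ℕ} (ha : a ≠ 0) (hidx : N.index = p ^ a) (hpN : p ∣ Nat.card N) :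
    IsPGroup p N := by
  classical
  have hpi : p ∣ N.index := hidx ▸ dvd_pow_self p ha
  obtain ⟨S, K, hKn, hKc⟩ := h.hasNormalPComplement hpi
  have hKp : ¬ p ∣ Nat.card K := by
    rw [← hKc.index_eq_card]
    exact S.not_dvd_index
  obtain ⟨b, hb⟩ := S.2.exists_card_eq
  have hNcard : Nat.card K * p ^ b = Nat.card N := hb ▸ hKc.card_mul_card
  have hKidx : K.index = p ^ b := by rw [hKc.symm.index_eq_card, hb]
  by_cases hK1 : K = ⊥
  · refine IsPGroup.of_card (n := b) ?_
    rw [← hNcard, hK1, Subgroup.card_bot, one_mul]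
  exfalso
  -- the normal complement is characteristic in `N`
  have hmemK : ∀ n : N, n ∈ K ↔ ¬ p ∣ orderOf n := by
    intro n
    constructor
    · intro hn hd
      have := orderOf_dvd_natCard (⟨n, hn⟩ : K)
      rw [Subgroup.orderOf_mk] at this
      exact hKp (hd.trans this)
    · intro hn
      haveI := hKn
      rw [← QuotientGroup.eq_one_iff, ← orderOf_eq_one_iff]
      refine Nat.eq_one_of_dvd_coprimes
        (((hp.out.coprime_iff_not_dvd).2 hn).symm.pow_right b)
        (orderOf_map_dvd (QuotientGroup.mk' K) n) ?_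
      rw [← hKidx, Subgroup.index_eq_card]
      exact orderOf_dvd_natCard _
  set K' := K.map N.subtype with hK'
  have hK'N : K' ≤ N := map_subtype_le K
  haveI : K'.Normal := by
    refine ⟨fun y hy g => ?_⟩
    obtain ⟨n, hn, rfl⟩ := hy
    refine ⟨⟨g * n * g⁻¹, (inferInstance : N.Normal).conj_mem _ n.2 g⟩, (hmemK _).2 ?_, rfl⟩
    have h1 := (hmemK n).1 hn
    rw [Subgroup.orderOf_mk]
    rw [← Subgroup.orderOf_coe] at h1
    rwa [show g * (n : G) * g⁻¹ = (MulAut.conj g).toMonoidHom (n : G) from rfl,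
      orderOf_injective _ (MulAut.conj g).injective]
  have hK'card : Nat.card K' = Nat.card K :=
    Nat.card_congr (K.equivMapOfInjective N.subtype N.subtype_injective).symm.toEquiv
  have hK'idx : K'.index = p ^ (b + a) := by
    have h1 := K'.card_mul_index
    rw [hK'card, ← N.card_mul_index, ← hNcard, hidx, mul_assoc, ← pow_add] at h1
    exact Nat.eq_of_mul_eq_mul_left Nat.card_pos h1
  -- a Sylow `r`-subgroup of the complement, and a Sylow `p`-subgroup normalising it
  obtain ⟨r, hr, hrK⟩ := Nat.exists_prime_and_dvd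
    ((Subgroup.one_lt_card_iff_ne_bot K).2 hK1).ne'
  haveI := Fact.mk hr
  have hrp : r ≠ p := fun e => hKp (e ▸ hrK)
  obtain ⟨R⟩ : Nonempty (Sylow r K') := inferInstance
  set R' : Subgroup G := (R : Subgroup K').map K'.subtype with hR'
  have hM : normalizer (R' : Set G) ⊔ K' = ⊤ := R.normalizer_sup_eq_top
  set M := normalizer (R' : Set G) with hMdef
  obtain ⟨T⟩ : Nonempty (Sylow p M) := inferInstance
  set P : Subgroup G := (T : Subgroup M).map M.subtype with hPdef
  have hPp : IsPGroup p P := T.2.map _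
  have hPM : P ≤ M := map_subtype_le _
  obtain ⟨c, hc⟩ := T.2.exists_card_eq
  have hPcard : Nat.card P = p ^ c := by
    rw [← hc]
    exact Nat.card_congr ((T : Subgroup M).equivMapOfInjective M.subtype M.subtype_injective).symm.toEquiv
  have hK'p : ¬ p ∣ Nat.card K' := hK'card ▸ hKp
  -- `G = K' P`
  have hsup : ∀ x : G, ∃ k ∈ K', ∃ y ∈ P, x = k * y := by
    intro x
    have hidxM : M.index ∣ Nat.card K' := by
      have h1 := card_eq_card_map_mul_card_inf (QuotientGroup.mk' K') M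
      have h2 : M.map (QuotientGroup.mk' K') = ⊤ := by
        have h3 := Subgroup.map_eq_map_iff (f := QuotientGroup.mk' K') (H := M) (K := ⊤)
        rw [← Subgroup.map_top_of_surjective _ (QuotientGroup.mk'_surjective K'), h3,
          QuotientGroup.ker_mk', hM, top_sup_eq]
      rw [h2, Subgroup.card_top, ← Subgroup.index_eq_card, QuotientGroup.ker_mk'] at h1
      refine ⟨Nat.card ↥(K' ⊓ M), Nat.eq_of_mul_eq_mul_left (Nat.pos_of_ne_zero K'.index_ne_zero_of_finite) ?_⟩
      rw [mul_comm K'.index, K'.card_mul_index, ← M.card_mul_index, ← h1]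
      ring
    have hPidx : ¬ p ∣ P.index := by
      rw [hPdef, Subgroup.index_map_subtype, hp.out.dvd_mul]
      exact not_or.2 ⟨T.not_dvd_index, fun hd => hK'p (hd.trans hidxM)⟩
    have htop : K' ⊔ P = ⊤ := by
      rw [← Subgroup.index_eq_one]
      refine Nat.eq_one_of_dvd_coprimes (a := K'.index) (b := P.index) ?_
        (Subgroup.index_dvd_of_le le_sup_left) (Subgroup.index_dvd_of_le le_sup_right)
      rw [hK'idx]
      exact ((hp.out.coprime_iff_not_dvd).2 hPidx).pow_left _
    exact (Subgroup.mem_sup_of_normal_left.1 (htop ▸ Subgroup.mem_top x)).imp fun k ⟨hk, y, hy, e⟩ =>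
      ⟨hk, y, hy, e.symm⟩
  set D : Subgroup P := N.subgroupOf P with hD
  haveI : D.Normal := (inferInstance : N.Normal).subgroupOf P
  have hdisj : ∀ t, t ∈ K' → t ∈ P → t = 1 := by
    intro t ht ht'
    rw [← orderOf_eq_one_iff]
    refine Nat.eq_one_of_dvd_coprimes ?_ (Subgroup.orderOf_dvd_natCard K' ht)
      (hPcard ▸ Subgroup.orderOf_dvd_natCard P ht')
    exact ((hp.out.coprime_iff_not_dvd).2 hK'p).symm.pow_right c
  have hcp : Camina.IsCP D := by
    intro g hg d hd
    obtain ⟨x, hx⟩ := h g (fun hh => hg (Subgroup.mem_subgroupOf.2 hh)) d (Subgroup.mem_subgroupOf.1 hd)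
    obtain ⟨k, hk, y, hy, rfl⟩ := hsup x
    refine ⟨⟨y, hy⟩, Subtype.ext ?_⟩
    show y * g * y⁻¹ = g * d
    have h1 : y * g * y⁻¹ = k⁻¹ * ((g : G) * d) * k := by rw [← hx]; group
    have h2 : ((g : G) * d)⁻¹ * (y * g * y⁻¹) ∈ K' := by
      rw [h1, show ((g : G) * d)⁻¹ * (k⁻¹ * ((g : G) * d) * k) =
        ((g : G) * d)⁻¹ * k⁻¹ * ((g : G) * d)⁻¹⁻¹ * k by group]
      exact mul_mem ((inferInstance : K'.Normal).conj_mem _ (inv_mem hk) _) hk
    have h3 : ((g : G) * d)⁻¹ * (y * g * y⁻¹) ∈ P :=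
      mul_mem (inv_mem (mul_mem g.2 d.2)) (mul_mem (mul_mem hy g.2) (inv_mem hy))
    exact (inv_mul_eq_one.1 (hdisj _ h2 h3)).symm
  have hDT : D ≠ ⊤ := by
    intro e
    have hPN : P ≤ N := Subgroup.subgroupOf_eq_top.1 e
    have htop : N = ⊤ := eq_top_iff.2 fun x _ => by
      obtain ⟨k, hk, y, hy, rfl⟩ := hsup x
      exact mul_mem (hK'N hk) (hPN hy)
    rw [htop, Subgroup.index_top] at hidx
    exact absurd hidx.symm (Nat.one_lt_pow ha hp.out.one_lt).ne'
  have hD1 : D ≠ ⊥ := by
    intro e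
    obtain ⟨w, hw⟩ := exists_prime_orderOf_dvd_card' (G := N) p hpN
    obtain ⟨k, hk, y, hy, hwe⟩ := hsup (w : G)
    have hyN : y ∈ N := by
      rw [show y = k⁻¹ * w by rw [hwe, inv_mul_cancel_left]]
      exact mul_mem (inv_mem (hK'N hk)) w.2
    have hy1 : (⟨y, hy⟩ : P) ∈ D := Subgroup.mem_subgroupOf.2 hyN
    rw [e, Subgroup.mem_bot] at hy1
    rw [show y = 1 from congrArg Subtype.val hy1, mul_one] at hwe
    rw [← Subgroup.orderOf_coe, hwe] at hw
    exact hK'p (hw ▸ Subgroup.orderOf_dvd_natCard K' hk)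
  -- the centre of the Sylow `r`-subgroup
  set Z : Subgroup G := R' ⊓ centralizer (R' : Set G) with hZ
  have hZne : Nontrivial Z := by
    have hR1 : (R : Subgroup K') ≠ ⊥ := R.ne_bot_of_dvd_card (hK'card ▸ hrK)
    haveI : Nontrivial R := (Subgroup.nontrivial_iff_ne_bot _).2 hR1
    haveI := R.2.center_nontrivial
    obtain ⟨t, ht⟩ := exists_ne (1 : center R)
    refine ⟨⟨⟨((t : R) : K'), ⟨_, (t : R).2, rfl⟩, Subgroup.mem_centralizer_iff.2 ?_⟩, 1, ?_⟩⟩
    · rintro _ ⟨s, hs, rfl⟩
      exact congrArg (fun q : R => ((q : K') : G)) (Subgroup.mem_center_iff.1 t.2 ⟨s, hs⟩)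
    · intro e
      exact ht (Subtype.ext (Subtype.ext (Subtype.ext (congrArg (fun q : Z => (q : G)) e))))
  haveI : IsMulCommutative Z := ⟨⟨fun s t => Subtype.ext
    (Subgroup.mem_centralizer_iff.1 t.2.2 s s.2.1)⟩⟩
  let _ : CommGroup Z := { (inferInstance : Group Z) with mul_comm := fun s t => mul_comm' s t }
  have hconj : ∀ y : P, ∀ t ∈ Z, (y : G) * t * (y : G)⁻¹ ∈ Z := by
    intro y t ht
    have hyM := Subgroup.mem_normalizer_iff.1 (hPM y.2)
    refine ⟨(hyM t).1 ht.1, Subgroup.mem_centralizer_iff.2 fun s hs => ?_⟩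
    have hs' : (y : G)⁻¹ * s * y ∈ R' := by
      refine (hyM _).2 ?_
      simpa [mul_assoc] using hs
    have h1 := Subgroup.mem_centralizer_iff.1 ht.2 _ hs'
    calc s * ((y : G) * t * (y : G)⁻¹) = y * (((y : G)⁻¹ * s * y) * t) * (y : G)⁻¹ := by group
      _ = (y : G) * t * (y : G)⁻¹ * s := by rw [h1]; group
  let ρ : P →* AddMonoid.End (Additive Z) :=
    { toFun := fun y => MonoidHom.toAdditive
        { toFun := fun t => ⟨(y : G) * t * (y : G)⁻¹, hconj y t t.2⟩
          map_one' := Subtype.ext (show (y : G) * 1 * (y : G)⁻¹ = 1 by rw [mul_one, mul_inv_cancel])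
          map_mul' := fun s t => Subtype.ext
            (show (y : G) * (s * t) * (y : G)⁻¹ = (y : G) * s * (y : G)⁻¹ * ((y : G) * t * (y : G)⁻¹) by group) }
      map_one' := by
        ext t
        show ((1 : P) : G) * (Additive.toMul t : Z) * ((1 : P) : G)⁻¹ = (Additive.toMul t : Z)
        simp
      map_mul' := fun s t => by
        ext v
        show ((s * t : P) : G) * (Additive.toMul v : Z) * ((s * t : P) : G)⁻¹ =
          (s : G) * ((t : G) * (Additive.toMul v : Z) * (t : G)⁻¹) * (s : G)⁻¹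
        rw [Subgroup.coe_mul]; group }
  have hZr : ∀ t : Z, ∃ i : ℕ, orderOf t = r ^ i := fun t => by
    have hR'r : IsPGroup r R' := R.2.map _
    obtain ⟨i, hi⟩ := (IsPGroup.iff_orderOf.1 (hR'r.to_le inf_le_left)) t
    exact ⟨i, hi⟩
  refine no_module (V := Additive Z) hp2 hPp D hD1 hDT hcp ?_ ρ ?_
  · intro v hv
    obtain ⟨i, hi⟩ := hZr (Additive.toMul v)
    have h1 : orderOf (Additive.toMul v : Z) ∣ p := orderOf_dvd_of_pow_eq_one hv
    have h2 : orderOf (Additive.toMul v : Z) = 1 :=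
      Nat.eq_one_of_dvd_coprimes (((Nat.coprime_primes hr hp.out).2 hrp).pow_left i)
        (hi ▸ dvd_rfl) h1
    exact orderOf_eq_one_iff.1 h2
  · intro y hy v hv
    have h1 : (y : G) * (Additive.toMul v : Z) * (y : G)⁻¹ = (Additive.toMul v : Z) :=
      congrArg Subtype.val hv
    have hvK : ((Additive.toMul v : Z) : G) ∈ K' := by
      obtain ⟨t, -, ht⟩ := (Additive.toMul v : Z).2.1
      exact ht ▸ t.2
    refine Subtype.ext (h.eq_one (g := (y : G)) (fun hh => hy (Subgroup.mem_subgroupOf.2 hh))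
      (hK'N hvK) (mul_inv_eq_iff_eq_mul.1 h1) ?_)
    refine (Nat.Coprime.coprime_dvd_left (Subgroup.orderOf_dvd_natCard P y.2) ?_).coprime_dvd_right
      (Subgroup.orderOf_dvd_natCard K' hvK)
    rw [hPcard]
    exact ((hp.out.coprime_iff_not_dvd).2 hK'p).pow_left c

/-- The normal subgroup of a Camina pair is soluble. -/
theorem isSolvable (N : Subgroup G) [N.Normal] (h : Camina.IsCP N) (hN1 : N ≠ ⊥) (hN2 : N ≠ ⊤) :
    Group.IsSolvable N := by
  classical
  by_cases hex : ∃ q : ℕ, q.Prime ∧ q ∣ N.index ∧ ¬ q ∣ Nat.card N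
  · obtain ⟨q, hq, hqi, hqN⟩ := hex
    haveI := Fact.mk hq
    haveI := h.isNilpotent hqi hqN
    infer_instance
  push Not at hex
  rcases h.trichotomy hN1 hN2 with hF | hNp | hI
  · exfalso
    obtain ⟨q, hq, hqi⟩ := Nat.exists_prime_and_dvd
      (fun e : N.index = 1 => hN2 (Subgroup.index_eq_one.1 e))
    haveI := Fact.mk hq
    obtain ⟨w, hw⟩ := exists_prime_orderOf_dvd_card' (G := N) q (hex q hq hqi)
    obtain ⟨S, hwS⟩ := Element.exists_sylow_mem (p := q) (k := 1) (g := (w : G)) (by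
      rw [Subgroup.orderOf_coe, hw, pow_one])
    set D : Subgroup S := N.subgroupOf S
    haveI : D.Normal := (inferInstance : N.Normal).subgroupOf _
    have hD1 : D ≠ ⊥ := fun e => by
      have : (⟨(w : G), hwS⟩ : S) ∈ D := w.2
      rw [e, Subgroup.mem_bot] at this
      rw [← Subgroup.orderOf_coe, show (w : G) = 1 from congrArg Subtype.val this, orderOf_one] at hw
      exact hq.ne_one hw.symm
    obtain ⟨z, hzD, hzc, hz⟩ := Transfer.exists_central_orderOf_eq_prime S.2 D hD1
    have hSN : (S : Subgroup G) ≤ N := fun s hs => by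
      refine hF (z : G) hzD (fun e => ?_) (Subgroup.mem_centralizer_singleton_iff.2
        (congrArg Subtype.val (Subgroup.mem_center_iff.1 hzc ⟨s, hs⟩)))
      rw [show z = 1 from Subtype.ext e, orderOf_one] at hz
      exact hq.ne_one hz.symm
    exact S.not_dvd_index (hqi.trans (Subgroup.index_dvd_of_le hSN))
  · obtain ⟨q, n, hq, -, hqn⟩ := (isPrimePow_nat_iff _).1 hNp
    haveI := Fact.mk hq
    haveI := (IsPGroup.of_card (G := N) hqn.symm).isNilpotent
    infer_instance
  · obtain ⟨p, a, hp, ha, hpa⟩ := (isPrimePow_nat_iff _).1 hI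
    haveI := Fact.mk hp
    have hpi : p ∣ N.index := hpa ▸ dvd_pow_self p ha.ne'
    have hpN := hex p hp hpi
    by_cases hp2 : p = 2
    · subst hp2
      obtain ⟨S, K, hKn, hKc⟩ := h.hasNormalPComplement hpi
      haveI := hKn
      have hKodd : Odd (Nat.card K) := by
        rw [← hKc.index_eq_card, Nat.odd_iff]
        exact Nat.two_dvd_ne_zero.1 S.not_dvd_index
      haveI : Group.IsSolvable K := Cfsg.Agent.S0205.result hKodd
      haveI : Group.IsNilpotent (N ⧸ K) := by
        obtain ⟨b, hb⟩ := S.2.exists_card_eq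
        refine (IsPGroup.of_card (p := 2) (n := b) ?_).isNilpotent
        rw [← Subgroup.index_eq_card, hKc.symm.index_eq_card, hb]
      exact Group.isSolvable_of_ker_le_range K.subtype (QuotientGroup.mk' K) (by simp)
    · haveI := (isPGroup_of_index_eq_pow hp2 N h ha.ne' hpa.symm hpN).isNilpotent
      infer_instance

end Cfsg.Agent.CaminaFpf
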